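import Groth.Agent.Lib.Punctured.CoherentCohom
import Groth.Agent.Lib.BlowUpProper.Basic
import Groth.Agent.Lib.BlowUp.Universal
import Groth.Agent.Lib.ModPair19.Basic
import Groth.Agent.Lib.RLpsi8.FibreVanish
import Groth.Agent.Lib.Cohom.Compare
import Groth.Prelude.Def_CurvBase
import Groth.Prelude.Def_Dual3
import Groth.Prelude.Def_Wider

/-!
# Cohomological dimension of an ideal through the fibres of its blowing up
-/

set_option autoImplicit false
set_option linter.all false
set_option backward.isDefEq.respectTransparency false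
set_option maxHeartbeats 1000000

universe u

open CategoryTheory CategoryTheory.Limits AlgebraicGeometry TopologicalSpace Opposite

noncomputable section

namespace GrothLib.CdBlow3

variable {A : Type u} [CommRing A] (I : Ideal A)

theorem puncturedOpen_eq : LocCoh.puncturedOpen A I = (Curv2.idealSheaf A I).support.compl := by
  refine Opens.ext ?_
  show (PrimeSpectrum.zeroLocus (R := A) (I : Set A))ᶜ =
    ((Curv2.idealSheaf A I).support : Set (Spec (CommRingCat.of A)))ᶜ
  rw [Curv2.idealSheaf, Scheme.IdealSheafData.coe_support_ofIdealTop, Spec_zeroLocus, ← Ideal.coe_comap,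
    Ideal.comap_map_of_bijective _ (ConcreteCategory.bijective_of_isIso (Scheme.ΓSpecIso (CommRingCat.of A)).inv)]

theorem main [IsNoetherianRing A] (X : Scheme.{u}) (b : X ⟶ Spec (CommRingCat.of A))
    (hb : BlowUp.IsBlowUp b (Curv2.idealSheaf A I)) (d : ℕ) (hd : Dual3.FibreDimLE b d) :
    LocCoh.CdLE A I (d + 1) := by
  intro M _ _ i hi
  obtain ⟨p, rfl⟩ : ∃ p, i = p + 2 := ⟨i - 2, by omega⟩
  haveI := GrothLib.BlowUpProper.isProper_of_isBlowUp hb
  set U : (Spec (CommRingCat.of A)).Opens := LocCoh.puncturedOpen A I with hU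
  haveI hiso : IsIso (b ∣_ U) := by
    rw [hU, puncturedOpen_eq]
    exact GrothLib.BlowUp.isIso_off_center hb
  haveI : IsAffineHom (b ⁻¹ᵁ U).ι := by
    have h1 := GrothLib.ModPair19.isAffineHom_interior hb.1
    have e : b ⁻¹ᵁ U = ModPair.interior ((Curv2.idealSheaf A I).comap b) := by
      refine Opens.ext ?_
      rw [hU, puncturedOpen_eq]
      show b ⁻¹' ((Curv2.idealSheaf A I).support : Set (Spec (CommRingCat.of A)))ᶜ =
        (((Curv2.idealSheaf A I).comap b).support : Set X)ᶜ
      rw [Scheme.IdealSheafData.support_comap]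
      rfl
    rw [e]
    exact h1
  let h : (U : Scheme.{u}) ⟶ X := inv (b ∣_ U) ≫ (b ⁻¹ᵁ U).ι
  let N : (U : Scheme.{u}).Modules := (GrothLib.Punctured.puncFun I).obj (ModuleCat.of (CommRingCat.of A) M)
  haveI : N.IsQuasicoherent := inferInstanceAs ((tilde (ModuleCat.of (CommRingCat.of A) M)).restrict U.ι).IsQuasicoherent
  haveI : CompactSpace X := QuasiCompact.compactSpace_of_compactSpace b
  haveI : QuasiSeparatedSpace X := quasiSeparatedSpace_of_quasiSeparated b
  haveI : QuasiCompact U.ι := GrothLib.Punctured.quasiCompact_ι I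
  haveI : ((Scheme.Modules.pushforward h).obj N).IsQuasicoherent := QCoh.isQuasicoherent_pushforward h N
  have hz := GrothLib.RLpsi8.FibreVanish.isZero_RpushAb b d hd ((Scheme.Modules.pushforward h).obj N) (p + 1) (by omega)
  have h2 := GrothLib.RLpsi8.FibreVanish.subsingleton_ext_of_isZero b _ (p + 1) hz (isAffineOpen_top _)
  rw [Scheme.Hom.preimage_top] at h2
  haveI := h2
  haveI : Subsingleton (Coh.HH X ((Scheme.Modules.pushforward h).obj N) (p + 1)) :=
    (Cohom.HEquivTop (T := TopCat.of X) (Coh.toAb ((Scheme.Modules.pushforward h).obj N)) (p + 1)).toEquiv.subsingleton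
  obtain ⟨e1⟩ := GrothLib.Cohom.nonempty_HH_equiv_pushforward h N (p + 1)
  haveI : Subsingleton (Coh.HH (U : Scheme.{u}) N (p + 1)) := e1.toEquiv.subsingleton
  obtain ⟨e2⟩ := GrothLib.Punctured.nonempty_HH_equiv I p (ModuleCat.of (CommRingCat.of A) M)
  exact e2.symm.toEquiv.subsingleton

end GrothLib.CdBlow3
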